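import Groth.Agent.Desc59.AmpleDesc
import Groth.Agent.S10945

/-!
Global generation: the criterion by morphisms, and descent along flat surjective maps of affine bases.
-/

set_option autoImplicit false
set_option backward.isDefEq.respectTransparency false
set_option backward.isDefEq.respectTransparency.types false
set_option linter.style.haveILetI false

noncomputable section

universe u

open CategoryTheory Limits AlgebraicGeometry TopologicalSpace Opposite TensorProduct
open Groth.Agent.QC70 Groth.Agent.DCK91

namespace Groth.Agent.GGDesc24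

variable {X : Scheme.{u}}

/-- Globally generated means: a morphism killing all global sections vanishes. -/
theorem isGloballyGenerated_iff (F : X.Modules) :
    Curv2.IsGloballyGenerated F ↔
      ∀ (T : X.Modules) (q : F ⟶ T), (∀ t, q.app ⊤ t = 0) → q = 0 := by
  constructor
  · rintro ⟨ι, p, hp⟩ T q hq
    let p' : (∐ fun _ : ι => unitMod X) ⟶ F := p
    haveI : Epi p' := hp
    rw [← cancel_epi p', Limits.comp_zero]
    refine Limits.Sigma.hom_ext _ _ fun i => ?_
    rw [Limits.comp_zero, ← Category.assoc]
    generalize Limits.Sigma.ι (fun _ : ι => unitMod X) i ≫ p' = φ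
    refine Scheme.Modules.hom_ext _ _ fun V => ?_
    ext a
    rw [QC70.app_toUnit (φ ≫ q) a]
    have h1 : (φ ≫ q).app ⊤ (toUnit 1) = 0 := hq _
    rw [h1]
    exact (congrArg ((show Γ(X, V) from a) • ·) (res_zero _)).trans (smul_zero _)
  · intro h
    refine ⟨Γ(F, ⊤), Limits.Sigma.desc (fun t : Γ(F, ⊤) => QC70.unitHom t), ?_⟩
    refine Preadditive.epi_of_cancel_zero _ fun {T} q hq => h T q fun t => ?_
    have h1 : QC70.unitHom t ≫ q = 0 := by
      rw [← Limits.Sigma.ι_desc (fun t : Γ(F, ⊤) => QC70.unitHom t) t]
      exact (Category.assoc _ _ _).trans ((congrArg (_ ≫ ·) hq).trans Limits.comp_zero)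
    have h2 := congr((Scheme.Modules.Hom.app $h1 ⊤) (toUnit 1))
    rw [Scheme.Modules.Hom.comp_app, ConcreteCategory.comp_apply, QC70.unitHom_app_one] at h2
    exact h2

/-- Inverse images of globally generated modules are globally generated. -/
theorem isGloballyGenerated_pullback {Y : Scheme.{u}} (g : Y ⟶ X) {F : X.Modules}
    (h : Curv2.IsGloballyGenerated F) :
    Curv2.IsGloballyGenerated ((Scheme.Modules.pullback g).obj F) := by
  rw [isGloballyGenerated_iff] at h ⊢
  intro T q hq
  apply ((Scheme.Modules.pullbackPushforwardAdjunction g).homEquiv F T).injective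
  refine (h _ _ fun t => ?_).trans (h _ _ fun t => ?_).symm
  · rw [Adjunction.homEquiv_unit, Scheme.Modules.Hom.comp_app, ConcreteCategory.comp_apply]
    exact hq _
  · rw [Adjunction.homEquiv_unit, Scheme.Modules.Hom.comp_app, ConcreteCategory.comp_apply]
    rfl

variable {Y : Scheme.{u}} {Y' X' : Scheme.{u}} {f : X ⟶ Y} {f' : X' ⟶ Y'} {g' : X' ⟶ X} {g : Y' ⟶ Y}

theorem isGloballyGenerated_of_pullback [IsAffine Y] [IsAffine Y'] [CompactSpace X] [QuasiSeparatedSpace X]
    [Flat g] [Surjective g] (H : IsPullback g' f' f g) (F : X.Modules) [F.IsQuasicoherent]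
    (hgen : Curv2.IsGloballyGenerated ((Scheme.Modules.pullback g').obj F)) :
    Curv2.IsGloballyGenerated F := by
  rw [isGloballyGenerated_iff] at hgen ⊢
  intro T q h
  have : Flat g' := MorphismProperty.of_isPullback (P := @Flat) H.flip inferInstance
  have : Surjective g' := MorphismProperty.of_isPullback (P := @Surjective) H.flip inferInstance
  have h0 : (Scheme.Modules.pullback g').map q = 0 := by
    refine hgen _ _ fun s => ?_
    obtain ⟨z₀, hz₀⟩ := Desc59.FlatH0.exists_eq_μ f f' g' F H s
    rw [← hz₀]
    clear hz₀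
    letI := Desc59.FlatH0.baseModule f F ⊤
    letI := g.appTop.hom.toAlgebra
    induction z₀ with
    | zero => rw [map_zero]; exact map_zero _
    | add a b ha hb =>
      rw [map_add]
      refine (map_add ((((Scheme.Modules.pullback g').map q).app ⊤).hom) _ _).trans ?_
      exact (congrArg₂ (· + ·) ha hb).trans (add_zero _)
    | tmul a t =>
      show ((Scheme.Modules.pullback g').map q).app (g' ⁻¹ᵁ ⊤)
        (f'.appLE ⊤ (g' ⁻¹ᵁ ⊤) le_top a • Amp73.pullS g' F ⊤ t) = 0
      rw [Scheme.Modules.Hom.app_smul, Amp73.map_app_pullS, h]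
      rw [show Amp73.pullS g' T ⊤ 0 = 0 from map_zero _, smul_zero]
  refine (FlatMor68.PullbackDescent.zero_iff q).mpr fun x e => ?_
  obtain ⟨x', rfl⟩ := g'.surjective x
  refine Desc59.AmpleDesc.pullη_injective g' x' ?_
  rw [← Desc59.QCohDesc.pullη_natural, map_zero, h0]
  exact stalkMapM_zero _ _

end Groth.Agent.GGDesc24
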